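import Groth.Agent.AdjLin.K577.GenNear
import Groth.Agent.Divis.StalkPrime
import Groth.Agent.Divis.CartierStalk
import Mathlib.RingTheory.DiscreteValuationRing.TFAE

/-!
# Divisorial ideals and their generic points

`Y` integral, `F` an effective Cartier ideal with integral closed subscheme, `gpt F` its generic point.

* `stalkIdeal_gpt`: `F_{gpt F}` is the maximal ideal.
* `mem_pow_of_gpt`: `a ∈ O_{Y,y}` lies in `F_y ^ e` if it does at `gpt F`.
* `stalkIdeal_le_prod`: `J_y ≤ (∏ E_i ^ e_i)_y` can be tested at the generic points of the `E_i` through `y`.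
* `isDVR_gpt`: the local ring at `gpt F` is a discrete valuation ring.
-/

set_option autoImplicit false
universe u
open CategoryTheory CategoryTheory.Limits AlgebraicGeometry TopologicalSpace

namespace K699.NcPts

open Groth.Agent Groth.Agent.Divis.CartierBasic Groth.Agent.Divis.CartierStalk Groth.Agent.Divis.StalkPrime
open Groth.Agent.CycB.LocQuot

/-! ### algebra -/

theorem prod_dvd {R ι : Type*} [CommRing R] [IsDomain R] (s : Finset ι) (t : ι → R) (e : ι → ℕ)
    (hp : ∀ i ∈ s, Prime (t i)) (hne : ∀ i ∈ s, ∀ j ∈ s, i ≠ j → ¬ t j ∣ t i) (a : R)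
    (h : ∀ i ∈ s, t i ^ e i ∣ a) : ∏ i ∈ s, t i ^ e i ∣ a := by
  classical
  induction s using Finset.induction_on with
  | empty => rw [Finset.prod_empty]; exact one_dvd _
  | insert j s hj ih =>
    rw [Finset.prod_insert hj]
    obtain ⟨b, hb⟩ := ih (fun i hi => hp i (Finset.mem_insert_of_mem hi))
      (fun i hi i' hi' => hne i (Finset.mem_insert_of_mem hi) i' (Finset.mem_insert_of_mem hi'))
      (fun i hi => h i (Finset.mem_insert_of_mem hi))
    have hpj := hp j (Finset.mem_insert_self j s)
    have h1 : t j ^ e j ∣ (∏ i ∈ s, t i ^ e i) * b := hb ▸ h j (Finset.mem_insert_self j s)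
    have h2 : ¬ t j ∣ ∏ i ∈ s, t i ^ e i := by
      intro h3
      obtain ⟨i, hi, h4⟩ := (hpj.dvd_finsetProd_iff _).1 h3
      exact hne i (Finset.mem_insert_of_mem hi) j (Finset.mem_insert_self j s) (by rintro rfl; exact hj hi)
        (hpj.dvd_of_dvd_pow h4)
    obtain ⟨c, hc⟩ := hpj.pow_dvd_of_dvd_mul_left (e j) h2 h1
    exact ⟨c, by rw [hb, hc]; ring⟩

/-! ### generic points of integral closed subschemes -/

variable {Y : Scheme.{u}}

/-- the generic point of an integral closed subscheme -/
noncomputable abbrev gpt (F : Y.IdealSheafData) [AlgebraicGeometry.IsIntegral F.subscheme] : Y :=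
  F.subschemeι (genericPoint F.subscheme)

theorem gpt_mem (F : Y.IdealSheafData) [AlgebraicGeometry.IsIntegral F.subscheme] : gpt F ∈ F.support :=
  subschemeι_mem_support F _

theorem gpt_specializes (F : Y.IdealSheafData) [AlgebraicGeometry.IsIntegral F.subscheme] {y : Y}
    (hy : y ∈ F.support) : gpt F ⤳ y := by
  obtain ⟨z, rfl⟩ := exists_subscheme_apply_eq F hy
  exact (genericPoint_specializes z).map F.subschemeι.continuous

theorem mem_support_iff_gpt (F : Y.IdealSheafData) [AlgebraicGeometry.IsIntegral F.subscheme] {y : Y} :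
    y ∈ F.support ↔ gpt F ⤳ y :=
  ⟨gpt_specializes F, fun h => h.mem_closed F.support.isClosed (gpt_mem F)⟩

theorem stalkIdeal_gpt (F : Y.IdealSheafData) [AlgebraicGeometry.IsIntegral F.subscheme] :
    stalkIdeal F (gpt F) = IsLocalRing.maximalIdeal (Y.presheaf.stalk (gpt F)) := by
  have h1 : IsField (Y.presheaf.stalk (gpt F) ⧸ stalkIdeal F (gpt F)) :=
    (stalkQuotEquiv F (genericPoint F.subscheme)).toMulEquiv.isField
      (Field.toIsField F.subscheme.functionField)
  exact IsLocalRing.eq_maximalIdeal (Ideal.Quotient.maximal_of_isField _ h1)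

theorem eq_of_gpt {F G : Y.IdealSheafData} [AlgebraicGeometry.IsIntegral F.subscheme]
    [AlgebraicGeometry.IsIntegral G.subscheme] (h : gpt F = gpt G) : F = G := by
  refine ext_stalkIdeal fun y => ?_
  by_cases hy : y ∈ F.support
  · have hy' : y ∈ G.support := by
      rw [mem_support_iff_gpt, ← h, ← mem_support_iff_gpt]; exact hy
    have h1 := ptOf_stalkIdeal F hy
    have h2 := ptOf_stalkIdeal G hy'
    have h3 : (⟨stalkIdeal F y, isPrime_stalkIdeal F hy⟩ : PrimeSpectrum (Y.presheaf.stalk y)) =
        ⟨stalkIdeal G y, isPrime_stalkIdeal G hy'⟩ := by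
      have h4 := h1.trans (h.trans h2.symm)
      rw [ptOf, ptOf] at h4
      exact (Y.fromSpecStalk y).isEmbedding.injective h4
    exact congrArg PrimeSpectrum.asIdeal h3
  · have hy' : y ∉ G.support := by
      rw [mem_support_iff_gpt, ← h, ← mem_support_iff_gpt]; exact hy
    rw [(notMem_support_iff_stalkIdeal_eq_top F y).1 hy, (notMem_support_iff_stalkIdeal_eq_top G y).1 hy']

/-- a germ lies in `F_y ^ e` if it does so at the generic point of `F` -/
theorem mem_pow_of_gpt [AlgebraicGeometry.IsIntegral Y] {F : Y.IdealSheafData}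
    [AlgebraicGeometry.IsIntegral F.subscheme] {y : Y} (hy : y ∈ F.support) {τ : Y.presheaf.stalk y}
    (hτ : stalkIdeal F y = Ideal.span {τ}) (hτ0 : τ ≠ 0) (e : ℕ) (a : Y.presheaf.stalk y)
    (ha : (Y.presheaf.stalkSpecializes (gpt_specializes F hy)).hom a ∈
      IsLocalRing.maximalIdeal (Y.presheaf.stalk (gpt F)) ^ e) : τ ^ e ∣ a := by
  have hprime : Prime τ := by
    have := isPrime_stalkIdeal F hy
    rw [hτ] at this
    exact (Ideal.span_singleton_prime hτ0).1 this
  have hloc := isLocalization_stalkSpecializes (gpt_specializes F hy)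
  let := (Y.presheaf.stalkSpecializes (gpt_specializes F hy)).hom.toAlgebra
  have hm : IsLocalRing.maximalIdeal (Y.presheaf.stalk (gpt F)) =
      Ideal.span {algebraMap (Y.presheaf.stalk y) (Y.presheaf.stalk (gpt F)) τ} := by
    rw [← stalkIdeal_gpt, K577.GenNear.stalkIdeal_specializes F (gpt_specializes F hy), hτ, Ideal.map_span,
      Set.image_singleton]
    rfl
  have ha' : algebraMap (Y.presheaf.stalk y) (Y.presheaf.stalk (gpt F)) a ∈
      IsLocalRing.maximalIdeal (Y.presheaf.stalk (gpt F)) ^ e := ha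
  rw [hm, Ideal.span_singleton_pow, Ideal.mem_span_singleton] at ha'
  obtain ⟨b, hb⟩ := ha'
  obtain ⟨⟨c, s⟩, hcs⟩ := IsLocalization.surj
    (RingHom.ker (Cyc.specMap y (gpt F) (gpt_specializes F hy))).primeCompl b
  have hinj : Function.Injective (algebraMap (Y.presheaf.stalk y) (Y.presheaf.stalk (gpt F))) :=
    IsLocalization.injective _ (Ideal.primeCompl_le_nonZeroDivisors
      (RingHom.ker (Cyc.specMap y (gpt F) (gpt_specializes F hy))))
  have key : τ ^ e ∣ s.1 * a := by
    refine ⟨c, hinj ?_⟩
    rw [map_mul, map_mul, map_pow, hb, ← hcs]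
    ring
  refine hprime.pow_dvd_of_dvd_mul_left e (fun h => ?_) key
  obtain ⟨t, ht⟩ := h
  have hu : IsUnit (algebraMap (Y.presheaf.stalk y) (Y.presheaf.stalk (gpt F)) s.1) :=
    IsLocalization.map_units _ s
  rw [ht, map_mul] at hu
  have h5 : algebraMap (Y.presheaf.stalk y) (Y.presheaf.stalk (gpt F)) τ ∈
      IsLocalRing.maximalIdeal (Y.presheaf.stalk (gpt F)) := by
    rw [hm]; exact Ideal.mem_span_singleton_self _
  exact (IsLocalRing.mem_maximalIdeal _).1 h5 (isUnit_of_mul_isUnit_left hu)

theorem stalkIdeal_prod {ι : Type*} (s : Finset ι) (D : ι → Y.IdealSheafData) (y : Y) :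
    stalkIdeal (∏ i ∈ s, D i) y = ∏ i ∈ s, stalkIdeal (D i) y := by
  classical
  induction s using Finset.induction_on with
  | empty => rw [Finset.prod_empty, Finset.prod_empty, Scheme.IdealSheafData.one_eq_top, stalkIdeal_top,
      Ideal.one_eq_top]
  | insert a s ha ih => rw [Finset.prod_insert ha, Finset.prod_insert ha, stalkIdeal_mul, ih]

/-- inclusions in monomial ideals can be tested in codimension one -/
theorem stalkIdeal_le_prod [AlgebraicGeometry.IsIntegral Y] {r : ℕ} {E : Fin r → Y.IdealSheafData}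
    (hE : ∀ i, BlowUp.IsEffCartierIdeal (E i)) [∀ i, AlgebraicGeometry.IsIntegral (E i).subscheme]
    (hinj : Function.Injective E) (J : Y.IdealSheafData) (y : Y) (e : Fin r → ℕ)
    (h : ∀ i, y ∈ (E i).support →
      stalkIdeal J (gpt (E i)) ≤ IsLocalRing.maximalIdeal (Y.presheaf.stalk (gpt (E i))) ^ e i) :
    stalkIdeal J y ≤ stalkIdeal (∏ i, E i ^ e i) y := by
  classical
  choose τ hτ0 hτ using fun i => exists_stalkIdeal_eq_span (hE i) y
  have h0 : ∀ i, τ i ≠ 0 := fun i => nonZeroDivisors.ne_zero (hτ0 i)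
  have hprod : stalkIdeal (∏ i, E i ^ e i) y =
      Ideal.span {∏ i ∈ Finset.univ.filter (fun i => y ∈ (E i).support), τ i ^ e i} := by
    rw [stalkIdeal_prod, ← Finset.prod_filter_mul_prod_filter_not Finset.univ (fun i => y ∈ (E i).support),
      Finset.prod_congr rfl (g := fun i => Ideal.span {τ i ^ e i})
        (fun i _ => by rw [stalkIdeal_pow, hτ, Ideal.span_singleton_pow]),
      Finset.prod_congr rfl (g := fun _ => (1 : Ideal (Y.presheaf.stalk y)))
        (s₁ := Finset.univ.filter fun i => ¬ y ∈ (E i).support) (fun i hi => by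
          rw [stalkIdeal_pow, (notMem_support_iff_stalkIdeal_eq_top _ y).1 (Finset.mem_filter.1 hi).2,
            ← Ideal.one_eq_top, one_pow]),
      Finset.prod_const_one, mul_one, Ideal.prod_span_singleton]
  intro a ha
  rw [hprod, Ideal.mem_span_singleton]
  refine prod_dvd _ τ e (fun i hi => ?_) (fun i hi j hj hij hd => ?_) a (fun i hi => ?_)
  · have hy := (Finset.mem_filter.1 hi).2
    have := isPrime_stalkIdeal (E i) hy
    rw [hτ] at this
    exact (Ideal.span_singleton_prime (h0 i)).1 this
  · have hyi := (Finset.mem_filter.1 hi).2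
    have hyj := (Finset.mem_filter.1 hj).2
    have pi : Prime (τ i) := by
      have := isPrime_stalkIdeal (E i) hyi
      rw [hτ] at this
      exact (Ideal.span_singleton_prime (h0 i)).1 this
    have pj : Prime (τ j) := by
      have := isPrime_stalkIdeal (E j) hyj
      rw [hτ] at this
      exact (Ideal.span_singleton_prime (h0 j)).1 this
    have h1 : Associated (τ j) (τ i) := pj.irreducible.associated_of_dvd pi.irreducible hd
    have h2 : stalkIdeal (E j) y = stalkIdeal (E i) y := by
      rw [hτ, hτ]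
      exact Ideal.span_singleton_eq_span_singleton.2 h1
    have h3 : gpt (E j) = gpt (E i) := by
      rw [gpt, gpt, ← ptOf_stalkIdeal (E j) hyj, ← ptOf_stalkIdeal (E i) hyi]
      congr 1
      exact PrimeSpectrum.ext h2
    exact hij (hinj (eq_of_gpt h3)).symm
  · have hy := (Finset.mem_filter.1 hi).2
    refine mem_pow_of_gpt hy (hτ i) (h0 i) (e i) a (h i hy ?_)
    rw [K577.GenNear.stalkIdeal_specializes J (gpt_specializes (E i) hy)]
    exact Ideal.mem_map_of_mem _ ha

/-! ### valuations -/

/-- the local ring at the generic point of a prime Cartier divisor is a discrete valuation ring -/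
theorem isDVR_gpt [AlgebraicGeometry.IsIntegral Y] [IsLocallyNoetherian Y] {F : Y.IdealSheafData}
    [AlgebraicGeometry.IsIntegral F.subscheme] (hF : BlowUp.IsEffCartierIdeal F) :
    IsDiscreteValuationRing (Y.presheaf.stalk (gpt F)) := by
  obtain ⟨τ, hτ0, hτ⟩ := exists_stalkIdeal_eq_span hF (gpt F)
  rw [stalkIdeal_gpt] at hτ
  have h0 : τ ≠ 0 := nonZeroDivisors.ne_zero hτ0
  have hnf : ¬ IsField (Y.presheaf.stalk (gpt F)) := by
    intro h
    rw [IsLocalRing.isField_iff_maximalIdeal_eq, hτ, Ideal.span_singleton_eq_bot] at h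
    exact h0 h
  have : IsNoetherianRing (Y.presheaf.stalk (gpt F)) := inferInstance
  have hp : (IsLocalRing.maximalIdeal (Y.presheaf.stalk (gpt F))).IsPrincipal := ⟨⟨τ, hτ⟩⟩
  exact ((IsDiscreteValuationRing.TFAE (Y.presheaf.stalk (gpt F)) hnf).out 0 4).2 hp

end K699.NcPts
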