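import Groth.Agent.AdjLin.K699.Van
import Groth.Agent.Ega2.AmpleGlobGen
import Groth.Agent.Krr.H469.VanBC
import Groth.Agent.Dual.H339.OmegaRank
import Groth.Agent.Sga67.LocBasisOps
import Groth.Agent.PerfA.CohSerre
import Groth.Agent.Fga.PicMon
import Groth.Agent.Fga.TwistCoh

/-!
# Local vanishing on a model (FREE4)

`van_rpush`: `μ : Y ⟶ X` projective birational, `Y` smooth, `E` strict normal crossing, `I_s` ideals of `X` with
`I_s O_Y = ∏ E_i^{al s i}`, `c_s ≥ 0` rational: `R^q μ_*(ω ⊗ O(-∑ ⌊∑_s c_s al s i⌋ E_i)) = 0` for `q ≥ 1`.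
`van_local`: the cohomology over the preimages of affine opens vanishes.
-/

set_option autoImplicit false
universe u
open CategoryTheory CategoryTheory.Limits AlgebraicGeometry Opposite TopologicalSpace

namespace K699.KV

open Groth.Agent Groth.Agent.Grpsch.PicGrp Groth.Agent.Fga.JacFactor Groth.Agent.Divis.EffCartier
open K31.Cover K931.Eff K660.Semi Groth.Agent.Fdesc.LocGen

/-- `ω ⊗ O(-∑ e_i E_i)`. -/
noncomputable abbrev twE {Y : Scheme.{u}} (ω : Y.Modules) {r : ℕ} (E : Fin r → Y.IdealSheafData) (e : Fin r → ℕ) :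
    Y.Modules :=
  CohB1.tensorMod ω (ClSub.idealMod (∏ i, E i ^ e i))

variable {k : Type u} [Field k] {X Y : Scheme.{u}} (p : X ⟶ Spec (CommRingCat.of k)) [IsProper p]
  (μ : Y ⟶ X) [IsProper μ] [AlgebraicGeometry.IsIntegral Y] [Smooth (μ ≫ p)]

theorem isFinLocFree_ext {Y : Scheme.{u}} (f : Y ⟶ Spec (CommRingCat.of k)) [AlgebraicGeometry.IsIntegral Y] [Smooth f]
    [QuasiSeparated f] {n : ℕ} (hn : topologicalKrullDim Y = n) {ω : Y.Modules}
    (hω : ExtPow.IsExtPow n (Omega.sheaf f) ω) : FlatMod.IsFinLocFree ω := by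
  have hs := smoothOfRelativeDimension f hn
  have hΩ : FlatMod.IsFinLocFree (Omega.sheaf f) := fun x => by
    obtain ⟨U, hx, he⟩ := Dual.H339.OmegaRank.isFinLocFreeOfRank_omega n f x
    exact ⟨U, n, hx, he⟩
  exact Sga67.LocBasis.isFinLocFree_of_isExtPow hΩ hω

/-- **Local vanishing on a model**, higher direct images. -/
theorem van_rpush (hKV : KVss k) (hμ : K84.Iface.IsBir μ) {H : Y.Modules} (hH : CohB1.IsAmple H) {n : ℕ}
    (hn : topologicalKrullDim Y = n) {ω : Y.Modules} (hω : ExtPow.IsExtPow n (Omega.sheaf (μ ≫ p)) ω)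
    {r : ℕ} (E : Fin r → Y.IdealSheafData) (hE : LogNCD.IsNCD E (μ ≫ p)) {A : X.Modules} (hA : CohB1.IsAmple A)
    {m : ℕ} (I : Fin m → X.IdealSheafData)
    (al : Fin m → Fin r → ℕ) (hI : ∀ s, (I s).comap μ = ∏ i, E i ^ al s i) (c : Fin m → ℚ) (hc : ∀ s, 0 ≤ c s)
    (q : ℕ) (hq : 1 ≤ q) :
    IsZero ((Coh.Rpush μ q).obj (twE ω E fun i => ⌊∑ s, c s * al s i⌋₊)) := by
  have hXn : IsLocallyNoetherian X := LocallyOfFiniteType.isLocallyNoetherian p
  have hYn : IsLocallyNoetherian Y := LocallyOfFiniteType.isLocallyNoetherian (μ ≫ p)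
  have hinj := Groth.Agent.Dcoh.DerSch.hasInjectiveResolutions Y
  have hXs : X.IsSeparated := by
    let _ : X.Over (Spec (CommRingCat.of k)) := ⟨p⟩
    have : IsProper (X ↘ Spec (CommRingCat.of k)) := inferInstanceAs (IsProper p)
    exact K931.Basic.isSeparated k X
  have hw : ∀ s, ∃ w, Curv2.IsGloballyGenerated (CohB1.tensorMod (CohB1.tensorPow A w) (ClSub.idealMod (I s))) := by
    intro s
    have hcoh : Coh.IsCoh (ClSub.idealMod (I s)) :=
      Sga67.CohBasic.isCoh_of_mono (ClSub.idealModι (I s)) (Fdesc.StructMod.isCoh_structureModule X) inferInstance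
    obtain ⟨w, hw⟩ := Ega2.AmpleGlobGen.exists_globGen hA hcoh
    exact ⟨w, gg_of_iso (Ega2.Tens.swap _ _) (hw w le_rfl)⟩
  choose w hgg using hw
  have hcohω : Coh.IsCoh ω := PerfA.CohSerre.isCoh_of_isFinLocFree (isFinLocFree_ext (μ ≫ p) hn hω)
  have hF := isEff_ncd hE (fun i => ⌊∑ s, c s * al s i⌋₊)
  have hM : Coh.IsCoh (twE ω E fun i => ⌊∑ s, c s * al s i⌋₊) :=
    Fga.TwistCoh.isCoh_tensor hcohω (Dix.IdealModCartier.isInvertible_idealMod hF)
  refine K461.LerayAmp.isZero_rpush_of_eventually μ p hA hM q ⟨⌊∑ s, c s * w s⌋₊ + 1, fun l hl => ?_⟩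
  have h1 := van_global p μ hKV hμ hH hn hω E hE hA I w hgg al hI c hc l (by
    have h2 : (∑ s, c s * w s : ℚ) < ⌊∑ s, c s * w s⌋₊ + 1 := Nat.lt_floor_add_one _
    have h3 : ((⌊∑ s, c s * w s⌋₊ + 1 : ℕ) : ℚ) ≤ l := by exact_mod_cast hl
    push_cast at h3
    linarith) q hq
  have h2 : Nonempty (CohB1.tensorMod ω (CohB1.tensorMod ((Scheme.Modules.pullback μ).obj (CohB1.tensorPow A l))
      (ClSub.idealMod (∏ i, E i ^ ⌊∑ s, c s * al s i⌋₊))) ≅
        CohB1.tensorMod ((Scheme.Modules.pullback μ).obj (CohB1.tensorPow A l))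
          (twE ω E fun i => ⌊∑ s, c s * al s i⌋₊)) := by
    rw [← Fga.PicMon.mc_eq_iff, Fga.PicMon.mc_tensor, Fga.PicMon.mc_tensor, Fga.PicMon.mc_tensor,
      Fga.PicMon.mc_tensor, mul_left_comm]
  obtain ⟨e⟩ := h2
  exact CohqA.TopVan.subsingleton_of_iso e.symm q h1

/-- **Local vanishing on a model**, over affine opens of `X`. -/
theorem van_local (hKV : KVss k) (hμ : K84.Iface.IsBir μ) {H : Y.Modules} (hH : CohB1.IsAmple H) {n : ℕ}
    (hn : topologicalKrullDim Y = n) {ω : Y.Modules} (hω : ExtPow.IsExtPow n (Omega.sheaf (μ ≫ p)) ω)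
    {r : ℕ} (E : Fin r → Y.IdealSheafData) (hE : LogNCD.IsNCD E (μ ≫ p)) {A : X.Modules} (hA : CohB1.IsAmple A)
    {m : ℕ} (I : Fin m → X.IdealSheafData)
    (al : Fin m → Fin r → ℕ) (hI : ∀ s, (I s).comap μ = ∏ i, E i ^ al s i) (c : Fin m → ℚ) (hc : ∀ s, 0 ≤ c s)
    (q : ℕ) (hq : 1 ≤ q) (U : X.Opens) (hU : IsAffineOpen U) :
    Subsingleton (Coh.HH (μ ⁻¹ᵁ U).toScheme ((twE ω E fun i => ⌊∑ s, c s * al s i⌋₊).restrict (μ ⁻¹ᵁ U).ι) q) := by
  have hYn : IsLocallyNoetherian Y := LocallyOfFiniteType.isLocallyNoetherian (μ ≫ p)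
  have hinj := Groth.Agent.Dcoh.DerSch.hasInjectiveResolutions Y
  have hF := isEff_ncd hE (fun i => ⌊∑ s, c s * al s i⌋₊)
  have hcohω : Coh.IsCoh ω := PerfA.CohSerre.isCoh_of_isFinLocFree (isFinLocFree_ext (μ ≫ p) hn hω)
  have hM : Coh.IsCoh (twE ω E fun i => ⌊∑ s, c s * al s i⌋₊) :=
    Fga.TwistCoh.isCoh_tensor hcohω (Dix.IdealModCartier.isInvertible_idealMod hF)
  refine Krr.H469.VanBC.subsingleton_HH_of_isZero μ _ hM.1 q ?_ U hU
  rw [Ega3B.RpushAbCmp.isZero_RpushAb_iff]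
  exact van_rpush p μ hKV hμ hH hn hω E hE hA I al hI c hc q hq

end K699.KV
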