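import Groth.Agent.AdjLin.K633.Plan
import Groth.Agent.AdjLin.K165.LogRes
import Groth.Agent.AdjLin.K699.VanLoc
import Groth.Agent.CycA.ProdDim

/-!
# FREE4: the vanishing nodes `NVanL`, `NVanG` of the plan, from `KVss`
-/

set_option autoImplicit false
universe u
open CategoryTheory CategoryTheory.Limits AlgebraicGeometry Opposite TopologicalSpace

namespace K699.PVan

open K633.Fuj K84.Iface Groth.Agent

variable {k : Type u} [Field k] {X : Scheme.{u}} {p : X ⟶ Spec (CommRingCat.of k)} {n : ℕ} {L : X.Modules}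

/-- the dimension of a birational modification -/
theorem dim_eq_of_isBir {X' X : Scheme.{u}} [AlgebraicGeometry.IsIntegral X'] [AlgebraicGeometry.IsIntegral X]
    (f : X ⟶ Spec (CommRingCat.of k)) [LocallyOfFiniteType f] (g : X' ⟶ X) [LocallyOfFiniteType (g ≫ f)]
    (hg : IsBir g) : topologicalKrullDim X' = topologicalKrullDim X := by
  obtain ⟨V, hV, hiso⟩ := hg
  obtain ⟨x, hx⟩ := K588.Bir.exists_of_isIso_restrict g hiso hV.some_mem
  have hne : Nonempty V := ⟨⟨_, hV.some_mem⟩⟩
  have hne' : Nonempty (g ⁻¹ᵁ V) := ⟨⟨x, by change g x ∈ V; rw [hx]; exact hV.some_mem⟩⟩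
  rw [← CycA.ProdDim.dim_of_isOpenImmersion f V.ι,
    ← CycA.ProdDim.dim_of_isOpenImmersion (g ≫ f) (g ⁻¹ᵁ V).ι]
  exact IsHomeomorph.topologicalKrullDim_eq _ (Scheme.homeoOfIso (asIso (g ∣_ V))).isHomeomorph

theorem isProper_p (C : Ctx p n L) : IsProper p := (K165.LogRes.exists_ample C.proj).1

theorem isProper_comp (M : Model p) : IsProper (M.μ ≫ p) := (K165.LogRes.exists_ample M.proj).1

theorem isProper_μ (C : Ctx p n L) (M : Model p) : IsProper M.μ := by
  have h1 := isProper_p C
  have h2 := isProper_comp M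
  exact IsProper.of_comp M.μ p

theorem exists_ample (M : Model p) : ∃ H : M.Y.Modules, CohB1.IsAmple H := (K165.LogRes.exists_ample M.proj).2

theorem dim_eq (C : Ctx p n L) (M : Model p) : topologicalKrullDim M.Y = n := by
  have h1 := isProper_p C
  have h2 := isProper_comp M
  have := C.int
  rw [← C.dim]
  exact dim_eq_of_isBir p M.μ M.bir

/-- **Local vanishing on a model** (node `NVanL`). -/
theorem nVanL (hKV : K699.KV.KVss k) (C : Ctx p n L) : NVanL p n L := by
  intro M B hB e he ω' hω U hU q hq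
  have h1 := isProper_p C
  have h2 := isProper_μ C M
  have h3 := M.smooth
  obtain ⟨H, hH⟩ := exists_ample M
  have key := K699.KV.van_local p M.μ hKV M.bir hH (dim_eq C M) hω M.E M.snc C.ample B.I (fun s => M.o (B.I s))
    (fun s => hB s) B.c B.nonneg q hq U hU
  have he' : e = fun i => ⌊∑ s, B.c s * (M.o (B.I s) i : ℚ)⌋₊ := funext he
  subst he'
  exact key

/-- **Global vanishing on a model** (node `NVanG`). -/
theorem nVanG (hKV : K699.KV.KVss k) (C : Ctx p n L) : NVanG p n L := by
  intro M B hB e he ω' hω l hl q hq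
  have h1 := isProper_p C
  have h2 := isProper_μ C M
  have h3 := M.smooth
  obtain ⟨H, hH⟩ := exists_ample M
  have key := K699.KV.van_global p M.μ hKV M.bir hH (dim_eq C M) hω M.E M.snc C.ample B.I B.a B.gg
    (fun s => M.o (B.I s)) (fun s => hB s) B.c B.nonneg l hl q hq
  have he' : e = fun i => ⌊∑ s, B.c s * (M.o (B.I s) i : ℚ)⌋₊ := funext he
  subst he'
  exact key

end K699.PVan
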