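import Groth.Agent.AdjLin.K699.NcPts
import Groth.Agent.AdjLin.K699.PVan
import Groth.Agent.AdjLin.K134.JacCart
import Groth.Agent.AdjLin.K577.SkodaEnd
import Groth.Agent.Dual.H366.ExtQCoh

/-!
# FREE4: the connectedness node `NConn` of the plan

Kollár–Shokurov connectedness for `B + β [m_x]` at a closed point `x`, on a model: from the local vanishing theorem
(`NVanL`), Mayer–Vietoris (`NMV`) and `μ_* O(K_{Y/X}) = O_X` (third part of `NJac`).
-/

set_option autoImplicit false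
universe u
open CategoryTheory CategoryTheory.Limits AlgebraicGeometry TopologicalSpace

namespace K699.Conn

open Groth.Agent Groth.Agent.Divis.CartierBasic Groth.Agent.Divis.CartierStalk
open K633.Fuj K84.Iface K699.NcPts K699.PVan

/-! ### the order of an ideal -/

theorem idOrd_top {R : Type u} [CommRing R] [IsLocalRing R] : idOrd (⊤ : Ideal R) = 0 := by
  have h : {m : ℕ | (⊤ : Ideal R) ≤ IsLocalRing.maximalIdeal R ^ m} = {0} := by
    ext m
    simp only [Set.mem_ofPred_eq, Set.mem_singleton_iff]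
    constructor
    · intro hm
      by_contra h0
      exact (IsLocalRing.maximalIdeal.isMaximal R).ne_top (top_le_iff.1 (hm.trans (Ideal.pow_le_self h0)))
    · rintro rfl
      rw [pow_zero, Ideal.one_eq_top]
  rw [idOrd, h, csSup_singleton]

theorem idOrd_pow {R : Type u} [CommRing R] [IsDomain R] [IsDiscreteValuationRing R] (n : ℕ) :
    idOrd (IsLocalRing.maximalIdeal R ^ n) = n := by
  obtain ⟨ϖ, hϖ⟩ := IsDiscreteValuationRing.exists_irreducible R
  have hm := hϖ.maximalIdeal_eq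
  have h : {m : ℕ | IsLocalRing.maximalIdeal R ^ n ≤ IsLocalRing.maximalIdeal R ^ m} = Set.Iic n := by
    ext m
    simp only [Set.mem_ofPred_eq, Set.mem_Iic]
    refine ⟨fun h => ?_, fun h => Ideal.pow_le_pow_right h⟩
    rw [hm, Ideal.span_singleton_pow, Ideal.span_singleton_pow, Ideal.span_singleton_le_span_singleton] at h
    exact (pow_dvd_pow_iff hϖ.ne_zero hϖ.not_isUnit).1 h
  rw [idOrd, h, csSup_Iic]

theorem eq_pow_idOrd {R : Type u} [CommRing R] [IsDomain R] [IsDiscreteValuationRing R] {I : Ideal R} (hI : I ≠ ⊥) :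
    I = IsLocalRing.maximalIdeal R ^ idOrd I := by
  have h0 : IsDiscreteValuationRing R ↔ ∀ (I : Ideal R) (_ : I ≠ ⊥), ∃ n : ℕ, I = IsLocalRing.maximalIdeal R ^ n :=
    (IsDiscreteValuationRing.TFAE R (IsDiscreteValuationRing.not_isField R)).out 0 6
  obtain ⟨n, hn⟩ := h0.1 inferInstance I hI
  conv_rhs => rw [hn, idOrd_pow]
  exact hn

/-! ### facts on models -/

variable {k : Type u} [Field k] {X : Scheme.{u}} {p : X ⟶ Spec (CommRingCat.of k)} {n : ℕ} {L : X.Modules}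

theorem isEff_E (M : Model p) (i : Fin M.r) : BlowUp.IsEffCartierIdeal (M.E i) := by
  have := M.smooth
  exact K911.Ncd.isEff_of_isNCD M.snc i

theorem isLocallyNoetherian (M : Model p) : IsLocallyNoetherian M.Y := by
  have := isProper_comp M
  exact LocallyOfFiniteType.isLocallyNoetherian (M.μ ≫ p)

theorem smoothRel (C : Ctx p n L) (M : Model p) : SmoothOfRelativeDimension n (M.μ ≫ p) := by
  have := M.smooth
  exact K699.KV.smoothOfRelativeDimension (M.μ ≫ p) (dim_eq C M)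

theorem isEff_J (C : Ctx p n L) (M : Model p) : BlowUp.IsEffCartierIdeal M.J := by
  have h1 := isProper_p C
  have h2 := isProper_comp M
  have h3 := C.smooth
  have h4 := smoothRel C M
  have h5 := C.int
  exact K134.JacCart.isEff_jac_of_isBir n M.μ p M.bir

theorem isDVR_gp (M : Model p) (i : Fin M.r) : IsDiscreteValuationRing (M.Y.presheaf.stalk (M.gp i)) := by
  have := isLocallyNoetherian M
  exact isDVR_gpt (isEff_E M i)

theorem gp_mem (M : Model p) (i : Fin M.r) : M.gp i ∈ (M.E i).support := gpt_mem (M.E i)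

theorem gp_specializes (M : Model p) {i : Fin M.r} {y : M.Y} (hy : y ∈ (M.E i).support) : M.gp i ⤳ y :=
  gpt_specializes (M.E i) hy

theorem stalkIdeal_J (C : Ctx p n L) (M : Model p) (i : Fin M.r) :
    stalkIdeal M.J (M.gp i) = IsLocalRing.maximalIdeal (M.Y.presheaf.stalk (M.gp i)) ^ (M.A i - 1) := by
  have := isDVR_gp M i
  obtain ⟨g, hg0, hg⟩ := exists_stalkIdeal_eq_span (isEff_J C M) (M.gp i)
  have h0 : stalkIdeal M.J (M.gp i) ≠ ⊥ := by
    rw [hg, Ne, Ideal.span_singleton_eq_bot]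
    exact nonZeroDivisors.ne_zero hg0
  have h1 := eq_pow_idOrd h0
  have h2 : M.A i - 1 = idOrd (stalkIdeal M.J (M.gp i)) := by
    rw [Model.A, add_tsub_cancel_left, ord]
  rw [h2]
  exact h1

theorem mem_fr {M : Model p} {e : Fin M.r → ℕ} {y : M.Y} {f : M.Y.functionField} :
    f ∈ M.fr e y ↔ ∀ a ∈ stalkIdeal M.J y, ∃ b ∈ stalkIdeal (M.mon e) y,
      algebraMap (M.Y.presheaf.stalk y) M.Y.functionField b =
        f * algebraMap (M.Y.presheaf.stalk y) M.Y.functionField a := Iff.rfl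

theorem stalkIdeal_mon_le (M : Model p) (e : Fin M.r → ℕ) (i : Fin M.r) :
    stalkIdeal (M.mon e) (M.gp i) ≤ IsLocalRing.maximalIdeal (M.Y.presheaf.stalk (M.gp i)) ^ e i := by
  rw [Model.mon, NcPts.stalkIdeal_prod]
  refine Ideal.prod_le_inf.trans ((Finset.inf_le (Finset.mem_univ i)).trans ?_)
  rw [stalkIdeal_pow]
  exact le_of_eq (congrArg (· ^ e i) (stalkIdeal_gpt (M.E i)))

/-- at the generic point of a log canonical place the fractional ideal consists of non-units -/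
theorem exists_of_mem_fr (C : Ctx p n L) (M : Model p) {e : Fin M.r → ℕ} {i : Fin M.r} (he : e i = M.A i)
    {f : M.Y.functionField} (hf : f ∈ M.fr e (M.gp i)) :
    ∃ b ∈ IsLocalRing.maximalIdeal (M.Y.presheaf.stalk (M.gp i)),
      algebraMap (M.Y.presheaf.stalk (M.gp i)) M.Y.functionField b = f := by
  have := isDVR_gp M i
  obtain ⟨ϖ, hϖ⟩ := IsDiscreteValuationRing.exists_irreducible (M.Y.presheaf.stalk (M.gp i))
  have hm := hϖ.maximalIdeal_eq
  obtain ⟨b, hb, hbf⟩ := mem_fr.1 hf (ϖ ^ (M.A i - 1)) (by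
    rw [stalkIdeal_J C M i, hm]
    exact Ideal.pow_mem_pow (Ideal.mem_span_singleton_self _) _)
  have h1 := stalkIdeal_mon_le M e i hb
  rw [he, hm, Ideal.span_singleton_pow, Ideal.mem_span_singleton] at h1
  obtain ⟨c, rfl⟩ := h1
  have hA : M.A i = (M.A i - 1) + 1 := by rw [Model.A]; omega
  refine ⟨ϖ * c, ?_, ?_⟩
  · rw [hm]
    exact Ideal.mul_mem_right _ _ (Ideal.mem_span_singleton_self _)
  · have hinj : Function.Injective (algebraMap (M.Y.presheaf.stalk (M.gp i)) M.Y.functionField) :=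
      IsFractionRing.injective _ _
    have h0 : algebraMap (M.Y.presheaf.stalk (M.gp i)) M.Y.functionField (ϖ ^ (M.A i - 1)) ≠ 0 := by
      rw [Ne, map_eq_zero_iff _ hinj]
      exact pow_ne_zero _ hϖ.ne_zero
    apply mul_right_cancel₀ h0
    rw [← hbf, ← map_mul]
    congr 1
    rw [hA, pow_succ, Nat.add_sub_cancel]
    ring

/-- `1 ∈ fr e y` if `e i < A i` for all `E_i` through `y` -/
theorem one_mem_fr (C : Ctx p n L) (M : Model p) {e : Fin M.r → ℕ} {y : M.Y}
    (h : ∀ i, y ∈ (M.E i).support → e i < M.A i) : (1 : M.Y.functionField) ∈ M.fr e y := by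
  refine mem_fr.2 fun a ha => ⟨a, ?_, (one_mul _).symm⟩
  refine stalkIdeal_le_prod (isEff_E M) M.inj M.J y e (fun i hi => ?_) ha
  have h1 := stalkIdeal_J C M i
  refine (le_of_eq h1).trans (Ideal.pow_le_pow_right ?_)
  have := h i hi
  omega

theorem fr_le_zero (M : Model p) (e : Fin M.r → ℕ) (y : M.Y) {f : M.Y.functionField} (hf : f ∈ M.fr e y) :
    f ∈ M.fr (fun _ => 0) y := by
  refine mem_fr.2 fun a ha => ?_
  obtain ⟨b, -, hb⟩ := mem_fr.1 hf a ha
  refine ⟨b, ?_, hb⟩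
  have h1 : M.mon (fun _ => 0) = ⊤ := by
    rw [Model.mon]
    simp only [pow_zero, Finset.prod_const_one]
    exact Scheme.IdealSheafData.one_eq_top
  rw [h1, stalkIdeal_top]
  trivial

theorem one_mem_fr_zero (M : Model p) (y : M.Y) : (1 : M.Y.functionField) ∈ M.fr (fun _ => 0) y := by
  refine mem_fr.2 fun a ha => ⟨a, ?_, (one_mul _).symm⟩
  have h1 : M.mon (fun _ => 0) = ⊤ := by
    rw [Model.mon]
    simp only [pow_zero, Finset.prod_const_one]
    exact Scheme.IdealSheafData.one_eq_top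
  rw [h1, stalkIdeal_top]
  trivial

theorem mem_support_ptI {w x : X} : x ∈ (ptI w).support ↔ w ⤳ x := by
  change x ∈ ((ptI w).support : Set X) ↔ _
  rw [ptI, Scheme.IdealSheafData.coe_support_vanishingIdeal]
  exact specializes_iff_mem_closure.symm

theorem o_eq_zero (M : Model p) {I : X.IdealSheafData} {i : Fin M.r} (h : M.c i ∉ I.support) : M.o I i = 0 := by
  have h1 : stalkIdeal (I.comap M.μ) (M.gp i) = ⊤ := by
    have h2 : stalkIdeal I (M.μ (M.gp i)) = ⊤ := (notMem_support_iff_stalkIdeal_eq_top I _).1 h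
    rw [stalkIdeal_comap, h2, Ideal.map_top]
  rw [Model.o, ord, h1]
  exact idOrd_top

/-! ### the boundary `B + β [m_x]` -/

/-- some twist of an ideal is globally generated -/
theorem exists_gg (C : Ctx p n L) (I : X.IdealSheafData) : ∃ a, GG L a I := by
  have h1 := isProper_p C
  have hXn : IsLocallyNoetherian X := LocallyOfFiniteType.isLocallyNoetherian p
  have hcoh : Coh.IsCoh (ClSub.idealMod I) :=
    Sga67.CohBasic.isCoh_of_mono (ClSub.idealModι I) (Fdesc.StructMod.isCoh_structureModule X) inferInstance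
  obtain ⟨w, hw⟩ := Ega2.AmpleGlobGen.exists_globGen C.ample hcoh
  exact ⟨w, K660.Semi.gg_of_iso (Ega2.Tens.swap _ _) (hw w le_rfl)⟩

/-- add `β [I]` to a boundary -/
noncomputable def add (B : Bd L) (I : X.IdealSheafData) (a : ℕ) (β : ℚ) (hI : I ≠ ⊥) (hg : GG L a I) (hβ : 0 ≤ β) :
    Bd L where
  m := B.m + 1
  I := Fin.cons I B.I
  a := Fin.cons a B.a
  c := Fin.cons β B.c
  ne := Fin.cases hI B.ne
  gg := Fin.cases hg B.gg
  nonneg := Fin.cases hβ B.nonneg

theorem add_o (B : Bd L) (I : X.IdealSheafData) (a : ℕ) (β : ℚ) (hI : I ≠ ⊥) (hg : GG L a I) (hβ : 0 ≤ β)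
    (M : Model p) (i : Fin M.r) : (add B I a β hI hg hβ).o M i = β * M.o I i + B.o M i := by
  rw [Bd.o, Bd.o]
  change ∑ j : Fin (B.m + 1), (Fin.cons β B.c : Fin (B.m + 1) → ℚ) j *
    (M.o ((Fin.cons I B.I : Fin (B.m + 1) → X.IdealSheafData) j) i : ℚ) = _
  rw [Fin.sum_univ_succ]
  simp only [Fin.cons_zero, Fin.cons_succ]

theorem add_isMon (B : Bd L) (I : X.IdealSheafData) (a : ℕ) (β : ℚ) (hI : I ≠ ⊥) (hg : GG L a I) (hβ : 0 ≤ β)
    (M : Model p) (h : M.IsMon I) (hB : B.IsMon M) : (add B I a β hI hg hβ).IsMon M := Fin.cases h hB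

/-! ### the theorem -/

/-- the open complement of finitely many members -/
def compl (M : Model p) (T : Set (Fin M.r)) : M.Y.Opens :=
  ⟨{y | ∀ i ∈ T, y ∉ (M.E i).support}, by
    have h : {y | ∀ i ∈ T, y ∉ (M.E i).support} = ⋂ i : T, ((M.E i).support : Set M.Y)ᶜ := by
      ext y; simp
    rw [h]
    exact isOpen_iInter_of_finite fun i => (M.E i).support.isClosed.isOpen_compl⟩

theorem mem_compl {M : Model p} {T : Set (Fin M.r)} {y : M.Y} :
    y ∈ compl M T ↔ ∀ i ∈ T, y ∉ (M.E i).support := Iff.rfl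

/-- a neighbourhood of `x` over which only centres specializing to `x` are seen -/
theorem exists_nbhd (M : Model p) (x : X) (U₀ : X.Opens) (hx : x ∈ U₀) :
    ∃ U : X.Opens, U ≤ U₀ ∧ x ∈ U ∧ IsAffineOpen U ∧
      ∀ i (y : M.Y), y ∈ (M.E i).support → M.μ y ∈ U → M.c i ⤳ x := by
  let W : X.Opens := ⟨⋂ i : {i : Fin M.r // ¬ M.c i ⤳ x}, (closure {M.c i.1})ᶜ,
    isOpen_iInter_of_finite fun i => isClosed_closure.isOpen_compl⟩
  have hxW : x ∈ W := by
    change x ∈ (⋂ i : {i : Fin M.r // ¬ M.c i ⤳ x}, (closure {M.c i.1})ᶜ : Set X)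
    rw [Set.mem_iInter]
    exact fun i h => i.2 (specializes_iff_mem_closure.2 h)
  obtain ⟨U, hxU, h1, h2⟩ := exists_affine_le (x := x) U₀ W hx hxW
  refine ⟨U.1, h1, hxU, U.2, fun i y hy hU => ?_⟩
  by_contra hc
  have h3 : M.μ y ∈ (⋂ i : {i : Fin M.r // ¬ M.c i ⤳ x}, (closure {M.c i.1})ᶜ : Set X) := h2 hU
  rw [Set.mem_iInter] at h3
  exact h3 ⟨i, hc⟩ (specializes_iff_mem_closure.1 ((gp_specializes M hy).map M.μ.continuous))

/-- **Connectedness** (node `NConn`). -/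
theorem nConn (C : Ctx p n L) (hJac : NJac p n) (hMV : NMV p n) (hVan : NVanL p n L) : NConn p L := by
  intro M B x w hLc β hβ hle ⟨j₀, hj₀, hj₀'⟩
  have hI := C.int
  by_contra hcon
  -- the places
  let T₁ : Set (Fin M.r) := {j | M.c j = x ∧ B.ld M j = β * M.o (ptI x) j}
  let T₂ : Set (Fin M.r) := {i | M.c i = w ∧ B.ld M i = 0}
  have hover : ∀ j ∈ T₁, ∀ y ∈ (M.E j).support, M.μ y = x := by
    intro j hj y hy
    have h1 : M.c j ⤳ M.μ y := (gp_specializes M hy).map M.μ.continuous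
    rw [hj.1] at h1
    exact (h1.mem_closed hLc.closed (Set.mem_singleton x) : M.μ y = x)
  have hdisj : ∀ i ∈ T₂, ∀ j ∈ T₁, ∀ y ∈ (M.E i).support, y ∉ (M.E j).support := by
    intro i hi j hj y hyi hyj
    exact hcon ⟨i, j, hi.1, hi.2, hj.1, hj.2, y, hyi, hyj, hover j hj y hyj⟩
  -- the boundary `B + β [m_x]`
  have hx0 : ptI x ≠ ⊥ := by
    intro h
    have h1 : genericPoint X ∈ (ptI x).support := by
      rw [h, Scheme.IdealSheafData.support_bot]
      trivial
    rw [mem_support_ptI] at h1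
    have h2 : genericPoint X = x := h1.mem_closed hLc.closed (Set.mem_singleton x)
    have h3 : x ⤳ w := h2 ▸ genericPoint_specializes w
    exact hLc.ne (h3.mem_closed hLc.closed (Set.mem_singleton x))
  obtain ⟨a, ha⟩ := exists_gg C (ptI x)
  let B' := add B (ptI x) a β hx0 ha hβ.le
  have hB'o : ∀ i, B'.o M i = β * M.o (ptI x) i + B.o M i := add_o B (ptI x) a β hx0 ha hβ.le M
  have hB'mon : B'.IsMon M := add_isMon B (ptI x) a β hx0 ha hβ.le M hLc.monx hLc.monB
  let e : Fin M.r → ℕ := fun i => ⌊B'.o M i⌋₊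
  have hld : ∀ i, B.ld M i = M.A i - B.o M i := fun i => rfl
  have hzero : ∀ i, M.c i ≠ x → M.o (ptI x) i = 0 := by
    intro i hi
    refine o_eq_zero M fun h => hi ?_
    rw [mem_support_ptI] at h
    exact h.mem_closed hLc.closed (Set.mem_singleton x)
  -- log canonical places
  have e₁ : ∀ j ∈ T₁, e j = M.A j := by
    intro j hj
    have h1 : B'.o M j = M.A j := by
      rw [hB'o, ← hj.2, hld]; ring
    change ⌊B'.o M j⌋₊ = _
    rw [h1, Nat.floor_natCast]
  have e₂ : ∀ i ∈ T₂, e i = M.A i := by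
    intro i hi
    have h0 := hzero i (by rw [hi.1]; exact hLc.ne)
    have h1 : B'.o M i = M.A i := by
      have h2 := hi.2
      rw [hld] at h2
      rw [hB'o, h0, Nat.cast_zero, mul_zero, zero_add]
      linarith
    change ⌊B'.o M i⌋₊ = _
    rw [h1, Nat.floor_natCast]
  have e₃ : ∀ i, M.c i ⤳ x → i ∉ T₁ → i ∉ T₂ → e i < M.A i := by
    intro i hi h1 h2
    have hA : 0 < M.A i := by rw [Model.A]; omega
    change ⌊B'.o M i⌋₊ < M.A i
    rw [Nat.floor_lt' hA.ne', hB'o]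
    by_cases hc : M.c i = x
    · have h3 := hle i hc
      have h4 : B.ld M i ≠ β * M.o (ptI x) i := fun h => h1 ⟨hc, h⟩
      have h5 := lt_of_le_of_ne h3 h4.symm
      rw [hld] at h5
      linarith
    · rw [hzero i hc, Nat.cast_zero, mul_zero, zero_add]
      have h3 := hLc.nonneg i hi
      have h4 : B.ld M i ≠ 0 := fun h => h2 ⟨hLc.centre i hi h, h⟩
      have h5 := lt_of_le_of_ne h3 h4.symm
      rw [hld] at h5
      linarith
  -- the neighbourhood
  obtain ⟨U₀, hxU₀, hMV'⟩ := hMV M x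
  obtain ⟨U, hU₀, hxU, hUaff, hcen⟩ := exists_nbhd M x U₀ hxU₀
  have hprop := isProper_comp M
  have hsm := smoothRel C M
  obtain ⟨ω', hω'⟩ : ∃ ω', Canon.IsTopDiff (M.μ ≫ p) n ω' := by
    refine Dual.H366.ExtQCoh.exists_isExtPow n (Ega2.QCohLocal.isQCoh_of_isFinLocFree fun z => ?_)
    obtain ⟨V, hz, hV⟩ := Dual.H339.OmegaRank.isFinLocFreeOfRank_omega n (M.μ ≫ p) z
    exact ⟨V, n, hz, hV⟩
  have hsub := hVan M B' hB'mon e (fun _ => rfl) ω' hω' U hUaff 1 le_rfl
  obtain ⟨f₁, f₂, hf, hf₁, hf₂⟩ := hMV' U hU₀ hUaff e ω' hω' hsub (M.μ ⁻¹ᵁ U ⊓ compl M T₁) (M.μ ⁻¹ᵁ U ⊓ compl M T₂) (by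
    rw [← inf_sup_left]
    refine inf_eq_left.2 fun y _ => ?_
    change y ∈ (compl M T₁ : Set M.Y) ∪ (compl M T₂ : Set M.Y)
    by_cases h : y ∈ compl M T₁
    · exact Or.inl h
    · right
      rw [mem_compl] at h
      push Not at h
      obtain ⟨j, hj, hy⟩ := h
      exact fun i hi hy' => hdisj i hi j hj y hy' hy) 1 (fun y hy => by
    refine one_mem_fr C M fun i hi => ?_
    refine e₃ i (hcen i y hi hy.1.1) (fun h => hy.1.2 i h hi) (fun h => hy.2.2 i h hi))
  -- `f₁` is a function on `U`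
  have h0 : ∀ y ∈ M.μ ⁻¹ᵁ U, f₁ ∈ M.fr (fun _ => 0) y := by
    intro y hy
    by_cases h : y ∈ compl M T₁
    · exact fr_le_zero M e y (hf₁ y ⟨hy, h⟩)
    · have h2 : y ∈ compl M T₂ := by
        rw [mem_compl] at h
        push Not at h
        obtain ⟨j, hj, hyj⟩ := h
        exact fun i hi hy' => hdisj i hi j hj y hy' hyj
      have h3 : f₁ = 1 + f₂ := by rw [hf]; ring
      rw [h3]
      exact Submodule.add_mem _ (one_mem_fr_zero M y) (fr_le_zero M e y (hf₂ y ⟨hy, h2⟩))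
  have hj₀T : j₀ ∈ T₁ := ⟨hj₀, hj₀'⟩
  have hj₀U : M.gp j₀ ∈ M.μ ⁻¹ᵁ U := by
    change M.c j₀ ∈ U
    rw [hj₀]; exact hxU
  obtain ⟨s, hs⟩ := hJac.2.2.1 M U f₁ h0 (M.gp j₀) hj₀U
  -- it is a unit at `x`
  obtain ⟨b₂, hb₂, hb₂'⟩ := exists_of_mem_fr C M (e₁ j₀ hj₀T) (hf₂ (M.gp j₀) ⟨hj₀U, fun i hi hy =>
    hdisj i hi j₀ hj₀T _ hy (gp_mem M j₀)⟩)
  have hinj : ∀ y : M.Y, Function.Injective (algebraMap (M.Y.presheaf.stalk y) M.Y.functionField) :=
    fun y => IsFractionRing.injective _ _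
  have hunit : IsUnit s := by
    have h1 : (M.μ.stalkMap (M.gp j₀)).hom s = 1 + b₂ := by
      apply hinj
      rw [← hs, map_add, map_one, hb₂', hf]
      ring
    refine isUnit_of_map_unit (M.μ.stalkMap (M.gp j₀)).hom s ?_
    rw [h1]
    by_contra h
    have h2 := (IsLocalRing.mem_maximalIdeal _).2 h
    have h3 := Ideal.sub_mem _ h2 hb₂
    rw [add_sub_cancel_right] at h3
    exact (Ideal.ne_top_iff_one _).1 (IsLocalRing.maximalIdeal.isMaximal _).ne_top h3
  -- but vanishes at `w`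
  obtain ⟨i₀, hi₀, hi₀'⟩ := hLc.ex
  have hi₀T : i₀ ∈ T₂ := ⟨hi₀, hi₀'⟩
  have hwU : w ∈ U := hLc.spec.mem_open U.2 hxU
  obtain ⟨b₁, hb₁, hb₁'⟩ := exists_of_mem_fr C M (e₂ i₀ hi₀T) (hf₁ (M.gp i₀) ⟨(by
    change M.c i₀ ∈ U
    rw [hi₀]; exact hwU), fun j hj hy => hdisj i₀ hi₀T j hj _ (gp_mem M i₀) hy⟩)
  obtain ⟨V, hV, t, ht⟩ := TopCat.Presheaf.exists_germ_eq X.presheaf s
  have hjV : M.μ (M.gp j₀) ∈ X.basicOpen t := by
    rw [Scheme.mem_basicOpen _ _ _ hV, ht]
    exact hunit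
  have hspec : M.c i₀ ⤳ M.c j₀ := by rw [hi₀, hj₀]; exact hLc.spec
  have hiV : M.μ (M.gp i₀) ∈ X.basicOpen t := hspec.mem_open (X.basicOpen t).2 hjV
  have hiV' : M.μ (M.gp i₀) ∈ V := X.basicOpen_le t hiV
  have hη : genericPoint M.Y ∈ M.μ ⁻¹ᵁ V :=
    (genericPoint_spec M.Y).mem_open_set_iff (M.μ ⁻¹ᵁ V).2 |>.2 ⟨M.gp j₀, trivial, hV⟩
  have k₁ := K577.SkodaEnd.algebraMap_stalkMap M.μ V hη t (M.gp j₀) hV
  have k₂ := K577.SkodaEnd.algebraMap_stalkMap M.μ V hη t (M.gp i₀) hiV'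
  have k₃ : (M.μ.stalkMap (M.gp i₀)).hom (X.presheaf.germ V (M.μ (M.gp i₀)) hiV' t) = b₁ := by
    apply hinj
    rw [hb₁', hs, ← ht]
    exact k₂.trans k₁.symm
  have k₄ : IsUnit b₁ := by
    rw [← k₃]
    refine IsUnit.map _ ?_
    have := hiV
    rwa [Scheme.mem_basicOpen _ _ _ hiV'] at this
  exact (IsLocalRing.mem_maximalIdeal _).1 hb₁ k₄

end K699.Conn
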