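import Groth.Agent.AdjLin.K699.KV
import Groth.Agent.Vanish.K660.Rows
import Groth.Agent.Vanish.K910.DescNZ
import Groth.Agent.Vanish.K909.AltFinal
import Groth.Agent.Resolve.K284.NodeB
import Groth.Agent.S17103

/-!
# Kawamata–Viehweg vanishing, unconditional

`kvss k : KVss k` for `k` algebraically closed of characteristic zero, from S17103 (Esnault–Viehweg), S17401
(Kawamata coverings), alterations (`K909.AltFinal.alt`, `K284.NodeB.nodeB`) and descent (`K910.DescNZ.desc`).
-/

set_option autoImplicit false
universe u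
open CategoryTheory CategoryTheory.Limits AlgebraicGeometry Opposite TopologicalSpace

namespace K699.KVFin

open K699.KV

variable (k : Type u) [Field k] [IsAlgClosed k] [CharZero k]

theorem ev : K660.KolUp.EV k := by
  intro X _ _ _ _ n hn H hH L Linv hL hLinv N hN r D hD α hα hLN μ b
  exact Groth.Agent.S17103.result k X n hn H hH L Linv hL hLinv N hN D hD α hα hLN μ b

theorem alt : K909.AltInterface.Alt k := K909.AltFinal.alt k (K284.NodeB.nodeB k)

theorem sab : SAB k := by
  intro X _ _ _ _ n hn L Linv hL hLinv hsa hbig b hb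
  exact K660.Rows.row16892 k (alt k) (K910.DescNZ.desc k) (ev k) X n hn L Linv hL hLinv hsa hbig b hb

theorem kaw : K31.Cover.Kaw k := by
  intro X f _ _ _ _ A hA hAmp r D hD Nj hN hNk
  obtain ⟨Z, τ, h1, h2, h3, h4, h5, h6, h7⟩ := Groth.Agent.S17401.result f A hA hAmp D hD Nj hN hNk
  exact ⟨Z, τ, h1, h2, h3, h4, h5, h6, h7⟩

theorem kvss : KVss k := K699.KV.kvss (sab k) (kaw k)

end K699.KVFin
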