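import Groth.Agent.AdjLin.K699.PVal
import Groth.Agent.AdjLin.K633.Asm4
import Groth.Agent.AdjLin.K369.Loc

/-!
# FREE4: node `NMono`
-/

set_option autoImplicit false
universe u
open CategoryTheory CategoryTheory.Limits AlgebraicGeometry TopologicalSpace

namespace K699.PMono

open Groth.Agent Groth.Agent.Divis.CartierBasic Groth.Agent.Divis.CartierStalk
open K633.Fuj K699.Conn K699.PVal

variable {k : Type u} [Field k] {X : Scheme.{u}} {p : X ⟶ Spec (CommRingCat.of k)} {n : ℕ} {L : X.Modules}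

theorem idOrd_bot {R : Type u} [CommRing R] [IsLocalRing R] : idOrd (⊥ : Ideal R) = 0 := by
  have h : {m : ℕ | (⊥ : Ideal R) ≤ IsLocalRing.maximalIdeal R ^ m} = Set.univ := by
    ext m
    simp
  rw [idOrd, h]
  rw [csSup_of_not_bddAbove (not_bddAbove_univ), csSup_empty]
  rfl

theorem le_of_pow_le {R : Type u} [CommRing R] [IsDomain R] [IsDiscreteValuationRing R] {a b : ℕ}
    (h : IsLocalRing.maximalIdeal R ^ a ≤ IsLocalRing.maximalIdeal R ^ b) : b ≤ a := by
  obtain ⟨ϖ, hϖ⟩ := IsDiscreteValuationRing.exists_irreducible R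
  rw [hϖ.maximalIdeal_eq, Ideal.span_singleton_pow, Ideal.span_singleton_pow,
    Ideal.span_singleton_le_span_singleton] at h
  exact (pow_dvd_pow_iff hϖ.ne_zero hϖ.not_isUnit).1 h

/-- node `NMono` -/
theorem nMono (C : Ctx p n L) : NMono p := by
  intro M x i I N hx hc hI hle
  subst hc
  have := isDVR_gp M i
  by_cases hp : ptI (M.c i) = ⊥
  · have h0 : M.o (ptI (M.c i)) i = 0 := by
      rw [Model.o, ord, hp, stalkIdeal_comap]
      have : stalkIdeal (⊥ : X.IdealSheafData) (M.μ (M.gp i)) = ⊥ := stalkIdeal_bot _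
      rw [this, Ideal.map_bot]
      exact idOrd_bot
    rw [h0, mul_zero]
    exact Nat.zero_le _
  · apply le_of_pow_le (R := M.Y.presheaf.stalk (M.gp i))
    rw [← stalkIdeal_comap_gp C M hI i, mul_comm, pow_mul, ← stalkIdeal_comap_gp C M hp i, stalkIdeal_comap,
      stalkIdeal_comap, ← Ideal.map_pow]
    refine Ideal.map_mono ?_
    refine hle.trans (le_of_eq ?_)
    congr 1
    exact (K369.Loc.stalkIdeal_ptI (M.c i)).symm

end K699.PMono
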