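import Groth.Agent.AdjLin.K699.KVInv
import Groth.Agent.Surf.K461.LerayAmp
import Groth.Agent.Resolve.K84.Iface
import Groth.Agent.VarietyB.GenLocusTensor
import Groth.Agent.Dcoh.DerSch

/-!
# Big classes and birational morphisms

* `ggc_eff`, `big_mul_ggc`, `big_mul_sa`.
* `not_isZero_push`: the direct image of an invertible module by a birational morphism is not zero.
* `big_pull`: the pull-back of an ample class by a proper birational morphism is big.
-/

set_option autoImplicit false
universe u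
open CategoryTheory CategoryTheory.Limits AlgebraicGeometry Opposite TopologicalSpace

namespace K699.KV

open Groth.Agent Groth.Agent.Grpsch.PicGrp Groth.Agent.Fga.JacFactor Groth.Agent.Divis.EffCartier
open K31.Cover K931.Eff K660.Semi Groth.Agent.Fdesc.LocGen
open Groth.Agent.VarietyB.GenLocusTensor (exists_mem_genLocus)

section cls

variable {X : Scheme.{u}} [AlgebraicGeometry.IsIntegral X]

theorem ggc_eff {c : Pic X} (h : GGc c) : Eff c := by
  obtain ⟨L, hL, rfl, hg⟩ := h
  obtain ⟨s, hs⟩ := exists_mem_genLocus hL hg (genericPoint X)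
  rw [eff_mk]
  exact ⟨s, K931.Eff.ne_zero_of_mem_genLocus s hs⟩

variable [CompactSpace X] [X.IsSeparated]

theorem big_pow {c a : Pic X} (ha : Amp a) (hc : Big c) {N : ℕ} (hN : 0 < N) : Big (c ^ N) := by
  obtain ⟨m, hm, h⟩ := hc a ha
  refine big_of_exists (Amp.pow ha hN) hm ?_
  rw [← pow_mul, mul_comm N m, pow_mul, ← div_pow]
  exact h.pow N

theorem big_mul_ggc {c d a : Pic X} (ha : Amp a) (hc : Big c) (hd : GGc d) : Big (c * d) :=
  hc.mul_eff ha (ggc_eff hd)

theorem big_mul_sa {c d a : Pic X} (ha : Amp a) (hc : Big c) (hd : SA d) : Big (c * d) := by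
  obtain ⟨m, hm, h⟩ := hd
  refine big_of_pow hm ?_
  rw [mul_pow]
  exact big_mul_ggc ha (big_pow ha hc hm) h

end cls

section push

variable {X Y : Scheme.{u}}

/-- The direct image of an invertible module under a birational morphism is not zero. -/
theorem not_isZero_push (μ : Y ⟶ X) (h : K84.Iface.IsBir μ) {M : Y.Modules} (hM : PicF.IsInvertible M) :
    ¬ IsZero ((Scheme.Modules.pushforward μ).obj M) := by
  intro h0
  obtain ⟨V, ⟨x, hx⟩, hiso⟩ := h
  obtain ⟨y', hy'⟩ := (μ ∣_ V).surjective ⟨x, hx⟩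
  let y : Y := (μ ⁻¹ᵁ V).ι y'
  obtain ⟨W, e, hyW, he⟩ := (isInvertible_iff M).1 hM y
  let g : (μ ⁻¹ᵁ V : Scheme.{u}) ⟶ X := (μ ⁻¹ᵁ V).ι ≫ μ
  have hg : IsOpenImmersion g := by
    have : g = (μ ∣_ V) ≫ V.ι := (morphismRestrict_ι μ V).symm
    rw [this]
    infer_instance
  let V' : X.Opens := g ''ᵁ ((μ ⁻¹ᵁ V).ι ⁻¹ᵁ W)
  have hle : μ ⁻¹ᵁ V' ≤ W := by
    rintro z ⟨w, hw, hwz⟩
    have hz : z ∈ μ ⁻¹ᵁ V := by
      change μ z ∈ V
      rw [← hwz]
      exact w.2
    have : w = ⟨z, hz⟩ := (Scheme.Hom.isOpenEmbedding g).injective (by exact hwz)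
    rw [this] at hw
    exact hw
  have hy : y ∈ μ ⁻¹ᵁ V' := ⟨y', hyW, rfl⟩
  have hgen := he.res hle
  have hs : Subsingleton Γ((Scheme.Modules.pushforward μ).obj M, V') :=
    Ega3B.SerreTwist.subsingleton_sections_of_isZero h0 V'
  have h1 : (1 : Γ(Y, μ ⁻¹ᵁ V')) = 0 := by
    apply hgen.ext
    exact @Subsingleton.elim Γ((Scheme.Modules.pushforward μ).obj M, V') hs _ _
  have h2 := congrArg (Y.presheaf.germ (μ ⁻¹ᵁ V') y hy).hom h1
  rw [map_zero, map_one] at h2
  exact one_ne_zero h2

end push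

section main

variable {k : Type u} [Field k] {X Y : Scheme.{u}} (p : X ⟶ Spec (CommRingCat.of k)) [IsProper p]
  (μ : Y ⟶ X) [IsProper μ] [AlgebraicGeometry.IsIntegral Y]

include p in
/-- Twists by large powers of the pull-back of an ample class have sections. -/
theorem exists_eff (hμ : K84.Iface.IsBir μ) {a : Pic X} (ha : Amp a) (d : Pic Y) (n₀ : ℕ) :
    ∃ n, n₀ ≤ n ∧ Eff (pull μ a ^ n * d) := by
  have hX : IsLocallyNoetherian X := LocallyOfFiniteType.isLocallyNoetherian p
  have hY : IsLocallyNoetherian Y := LocallyOfFiniteType.isLocallyNoetherian (μ ≫ p)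
  have hinj := Groth.Agent.Dcoh.DerSch.hasInjectiveResolutions Y
  by_contra hcon
  push Not at hcon
  have h1 : IsZero ((Coh.Rpush μ 0).obj (rep d)) := by
    refine K461.LerayAmp.isZero_rpush_of_eventually μ p (amp_rep ha)
      (Fga.HodgeSec.isCoh_of_isInvertible (rep_inv d)) 0 ⟨n₀, fun n hn => ?_⟩
    rw [← not_nontrivial_iff_subsingleton, K931.Basic.nontrivial_H0_iff, ← eff_mk
      (isInvertible_tensorMod (isInvertible_pullback μ (isInvertible_tensorPow (rep_inv a) n)) (rep_inv d))]
    have h2 : mk (CohB1.tensorMod ((Scheme.Modules.pullback μ).obj (CohB1.tensorPow (rep a) n)) (rep d))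
        (isInvertible_tensorMod (isInvertible_pullback μ (isInvertible_tensorPow (rep_inv a) n)) (rep_inv d)) =
          pull μ a ^ n * d := by
      rw [← mk_mul_mk (isInvertible_pullback μ (isInvertible_tensorPow (rep_inv a) n)) (rep_inv d),
        ← pull_mk μ (isInvertible_tensorPow (rep_inv a) n),
        mk_tensorPow (rep_inv a), map_pow, mk_rep, mk_rep]
    rw [h2]
    exact hcon n hn
  have hadd : (Coh.push μ).Additive := inferInstanceAs (Scheme.Modules.pushforward μ).Additive
  let e0 : (Coh.Rpush μ 0).obj (rep d) ≅ (Coh.push μ).obj (rep d) :=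
    ((Scheme.Modules.pushforward μ).rightDerivedZeroIsoSelf).app _
  exact not_isZero_push μ hμ (rep_inv d) (h1.of_iso e0.symm)

include p in
/-- The pull-back of an ample class by a proper birational morphism is big. -/
theorem big_pull [CompactSpace Y] [Y.IsSeparated] (hμ : K84.Iface.IsBir μ) {a : Pic X} (ha : Amp a) {h : Pic Y}
    (hh : Amp h) : Big (pull μ a) := by
  obtain ⟨n, hn, he⟩ := exists_eff p μ hμ ha h⁻¹ 1
  refine big_of_exists hh hn ?_
  rw [div_eq_mul_inv]
  exact he

end main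

end K699.KV
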