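import Groth.Agent.AdjLin.K699.KVInv
import Groth.Agent.Surf.K461.SerreDual

/-!
# Kawamata–Viehweg vanishing from `SAB` (S16892) and `Kaw` (S17401)

`kv_cls`: the vanishing in terms of classes of the Picard group; `kvss`: the module form of `KVDef`.
-/

set_option autoImplicit false
universe u
open CategoryTheory CategoryTheory.Limits AlgebraicGeometry Opposite TopologicalSpace

namespace K699.KV

open Groth.Agent Groth.Agent.Grpsch.PicGrp Groth.Agent.Fga.JacFactor Groth.Agent.Divis.EffCartier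
open K31.Cover K931.Eff K660.Semi Groth.Agent.Fdesc.LocGen

variable {k : Type u} [Field k]

/-- **Kawamata–Viehweg vanishing** in terms of classes. -/
theorem kv_cls [IsAlgClosed k] [CharZero k] (hSAB : SAB k) (hKaw : Kaw k) (Y : Scheme.{u})
    [Y.Over (Spec (CommRingCat.of k))]
    [IsProper (Y ↘ Spec (CommRingCat.of k))] [Smooth (Y ↘ Spec (CommRingCat.of k))] [IrreducibleSpace Y] (n : ℕ)
    (hn : topologicalKrullDim Y = n) (ω : Y.Modules)
    (hω : ExtPow.IsExtPow n (Omega.sheaf (Y ↘ Spec (CommRingCat.of k))) ω) (N : ℕ) (hN : 1 ≤ N) {r : ℕ}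
    (D : Fin r → Y.IdealSheafData)
    (hD : LogNCD.IsNCD D (Y ↘ Spec (CommRingCat.of k))) (α : Fin r → ℕ) (hα : ∀ j, α j < N)
    (hC : BlowUp.IsEffCartierIdeal (∏ j, D j ^ α j)) {a : Pic Y} (ha : Amp a) {L : Y.Modules}
    (hL : PicF.IsInvertible L)
    (hsa : SA (mk L hL ^ N * dcl _ hC)) (hbig : Big (mk L hL ^ N * dcl _ hC)) (i : ℕ) (hi : 1 ≤ i) :
    Subsingleton (Coh.HH Y (CohB1.tensorMod ω L) i) := by
  rcases le_or_gt i n with hin | hin
  · have := smoothOfRelativeDimension (Y ↘ Spec (CommRingCat.of k)) hn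
    have hinv : CohB1.tensorMod (dual L) L ≅ Coh.structureModule Y := by
      have h1 : mk (dual L) (isInvertible_dual hL) * mk L hL = 1 := by rw [← inv_mk hL, inv_mul_cancel]
      rw [mk_mul_mk] at h1
      exact ((mk_eq_one_iff _).mp h1).some
    have h1 := kv_inv hSAB hKaw Y n hn N hN D hD α hα hC (c := mk L hL) ha hsa hbig (isInvertible_dual hL)
      (inv_mk hL).symm (n - i) (by omega)
    have hq : Coh.IsQCoh (dual L) := (Fga.HodgeSec.isCoh_of_isInvertible (isInvertible_dual hL)).1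
    obtain ⟨e⟩ := K461.SerreDual.nonempty_dual_equiv k n hω ⟨hinv⟩ hq i (n - i) (by omega)
    have h2 : Subsingleton (Module.Dual k (Coh.HH Y (dual L) (n - i))) := by
      refine ⟨fun a b => ?_⟩
      ext x
      rw [Subsingleton.elim x 0, map_zero, map_zero]
    exact e.symm.toEquiv.subsingleton
  · have := K931.Basic.isNoetherian k Y
    exact Fga.EulerLEAdd.subsingleton_HH Y n hn.le _ i (by omega)

theorem kvss [IsAlgClosed k] [CharZero k] (hSAB : SAB k) (hKaw : Kaw k) : KVss k := by
  intro Y _ _ _ _ n hn ω hω L hL N hN r D hD α hα hsa hbig i hi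
  have : AlgebraicGeometry.IsIntegral Y := isIntegral_of_smooth (Y ↘ Spec (CommRingCat.of k))
  have hsep : Y.IsSeparated := K931.Basic.isSeparated k Y
  have hcomp : CompactSpace Y := K931.Basic.compactSpace k Y
  have hC := isEff_ncd hD α
  have hM := isInvertible_lnd hL N D α hC
  obtain ⟨a, ha, hbig'⟩ := big_of_bigM hM hbig
  have hsa' := sa_of_semiAmple hM hsa
  rw [mk_lnd hL N D α hC hM] at hbig' hsa'
  exact kv_cls hSAB hKaw Y n hn ω hω N hN D hD α hα hC ha hL hsa' hbig' i hi

/-- `KVss` from the statement of S16892 and S17401 (`Kaw k` is `Groth.Agent.S17401.result`). -/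
theorem kvss' [IsAlgClosed k] [CharZero k] (hKaw : Kaw k) (hP : SAB k) : KVss k := kvss hP hKaw

end K699.KV
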