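import Groth.Agent.AdjLin.K699.Conn

/-!
# FREE4: orders at the generic points of the members of a model

`nVal` (node `NVal`) and `o_eq_zero_iff` (fifth clause of `NTower`).
-/

set_option autoImplicit false
universe u
open CategoryTheory CategoryTheory.Limits AlgebraicGeometry TopologicalSpace

namespace K699.PVal

open Groth.Agent Groth.Agent.Divis.CartierBasic Groth.Agent.Divis.CartierStalk Groth.Agent.Divis.StalkPrime
open K633.Fuj K84.Iface K699.NcPts K699.PVan K699.Conn

variable {k : Type u} [Field k] {X : Scheme.{u}} {p : X ⟶ Spec (CommRingCat.of k)} {n : ℕ} {L : X.Modules}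

/-- the generic point of a member lies on no other member -/
theorem gp_notMem (M : Model p) {i j : Fin M.r} (h : j ≠ i) : M.gp i ∉ (M.E j).support := by
  intro hy
  have := isDVR_gp M i
  obtain ⟨τ, hτ0, hτ⟩ := exists_stalkIdeal_eq_span (isEff_E M j) (M.gp i)
  have hprime := isPrime_stalkIdeal (M.E j) hy
  have h0 : stalkIdeal (M.E j) (M.gp i) ≠ ⊥ := by
    rw [hτ, Ne, Ideal.span_singleton_eq_bot]
    exact nonZeroDivisors.ne_zero hτ0
  have h1 : stalkIdeal (M.E j) (M.gp i) = stalkIdeal (M.E i) (M.gp i) := by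
    rw [show stalkIdeal (M.E i) (M.gp i) = IsLocalRing.maximalIdeal _ from stalkIdeal_gpt (M.E i)]
    exact IsLocalRing.eq_maximalIdeal (hprime.isMaximal h0)
  have h2 : gpt (M.E j) = gpt (M.E i) := by
    rw [gpt, gpt, ← ptOf_stalkIdeal (M.E j) hy, ← ptOf_stalkIdeal (M.E i) (gp_mem M i)]
    congr 1
    exact PrimeSpectrum.ext h1
  exact h (M.inj (eq_of_gpt h2))

theorem stalkIdeal_mon (M : Model p) (e : Fin M.r → ℕ) (i : Fin M.r) :
    stalkIdeal (M.mon e) (M.gp i) = IsLocalRing.maximalIdeal (M.Y.presheaf.stalk (M.gp i)) ^ e i := by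
  classical
  rw [Model.mon, NcPts.stalkIdeal_prod, ← Finset.mul_prod_erase Finset.univ _ (Finset.mem_univ i),
    Finset.prod_congr rfl (g := fun _ => (1 : Ideal (M.Y.presheaf.stalk (M.gp i)))) (fun j hj => by
      rw [stalkIdeal_pow, (notMem_support_iff_stalkIdeal_eq_top _ _).1 (gp_notMem M (Finset.ne_of_mem_erase hj)),
        ← Ideal.one_eq_top, one_pow]), Finset.prod_const_one, mul_one, stalkIdeal_pow]
  exact congrArg (· ^ e i) (stalkIdeal_gpt (M.E i))

/-- node `NVal` -/
theorem nVal (C : Ctx p n L) : NVal p := by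
  intro M e i f
  rw [mem_fr, stalkIdeal_J C M i, stalkIdeal_mon M e i]

theorem μ_genericPoint (C : Ctx p n L) (M : Model p) :
    have := C.int
    M.μ (genericPoint M.Y) = genericPoint X := by
  have := C.int
  exact K588.Bir.map_genericPoint M.bir

/-- the pullback of a nonzero ideal has nonzero stalks -/
theorem stalkIdeal_comap_ne_bot (C : Ctx p n L) (M : Model p) {I : X.IdealSheafData} (hI : I ≠ ⊥) (y : M.Y) :
    stalkIdeal (I.comap M.μ) y ≠ ⊥ := by
  have := C.int
  intro h
  have hη := μ_genericPoint C M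
  have h1 : genericPoint X ∉ I.support := by
    intro h2
    exact hI (K165.LogRes.mem_support_bot_iff.1 h2)
  have h3 : stalkIdeal (I.comap M.μ) (genericPoint M.Y) = ⊥ := by
    rw [K577.GenNear.stalkIdeal_specializes (I.comap M.μ) (genericPoint_specializes y), h, Ideal.map_bot]
  rw [stalkIdeal_comap, (notMem_support_iff_stalkIdeal_eq_top I _).1 (by rw [hη]; exact h1), Ideal.map_top] at h3
  exact bot_ne_top h3.symm

theorem o_eq_zero_iff (C : Ctx p n L) (M : Model p) {I : X.IdealSheafData} (i : Fin M.r) (hI : I ≠ ⊥) :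
    M.o I i = 0 ↔ M.c i ∉ I.support := by
  refine ⟨fun h hc => ?_, o_eq_zero M⟩
  have := isDVR_gp M i
  have h1 := eq_pow_idOrd (stalkIdeal_comap_ne_bot C M hI (M.gp i))
  have h2 : idOrd (stalkIdeal (I.comap M.μ) (M.gp i)) = 0 := h
  rw [h2, pow_zero, Ideal.one_eq_top] at h1
  have h3 : M.gp i ∉ (I.comap M.μ).support := (notMem_support_iff_stalkIdeal_eq_top _ _).2 h1
  rw [Scheme.IdealSheafData.support_comap] at h3
  exact h3 hc

/-- the stalk of the pullback of a nonzero ideal at the generic point of a member -/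
theorem stalkIdeal_comap_gp (C : Ctx p n L) (M : Model p) {I : X.IdealSheafData} (hI : I ≠ ⊥) (i : Fin M.r) :
    stalkIdeal (I.comap M.μ) (M.gp i) = IsLocalRing.maximalIdeal (M.Y.presheaf.stalk (M.gp i)) ^ M.o I i := by
  have := isDVR_gp M i
  exact eq_pow_idOrd (stalkIdeal_comap_ne_bot C M hI (M.gp i))

end K699.PVal
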