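import Groth.Agent.AdjLin.K699.BigPull
import Groth.Agent.AdjLin.K699.EpiComap
import Mathlib.Algebra.Order.Floor.Semifield

/-!
# Global vanishing on a model (FREE4)

`van_global`: `μ : Y ⟶ X` projective birational, `Y` smooth, `E` strict normal crossing, `I_s` ideals of `X` with
`A^{w_s} ⊗ I_s` globally generated and `I_s O_Y = ∏ E_i^{al s i}`, `c_s ≥ 0` rational, `∑ c_s w_s < l`:
`H^q(Y, ω ⊗ μ^*A^l ⊗ O(-∑ ⌊∑_s c_s al s i⌋ E_i)) = 0` for `q ≥ 1`.
-/

set_option autoImplicit false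
universe u
open CategoryTheory CategoryTheory.Limits AlgebraicGeometry Opposite TopologicalSpace

namespace K699.KV

open Groth.Agent Groth.Agent.Grpsch.PicGrp Groth.Agent.Fga.JacFactor Groth.Agent.Divis.EffCartier
open K31.Cover K931.Eff K660.Semi Groth.Agent.Fdesc.LocGen

/-- `KVss` in terms of classes. -/
theorem KVss.cls {k : Type u} [Field k] (hKV : KVss k) (Y : Scheme.{u})
    [Y.Over (Spec (CommRingCat.of k))]
    [IsProper (Y ↘ Spec (CommRingCat.of k))] [Smooth (Y ↘ Spec (CommRingCat.of k))] [IrreducibleSpace Y] (n : ℕ)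
    (hn : topologicalKrullDim Y = n) (ω : Y.Modules)
    (hω : ExtPow.IsExtPow n (Omega.sheaf (Y ↘ Spec (CommRingCat.of k))) ω) (N : ℕ) (hN : 1 ≤ N) {r : ℕ}
    (D : Fin r → Y.IdealSheafData)
    (hD : LogNCD.IsNCD D (Y ↘ Spec (CommRingCat.of k))) (α : Fin r → ℕ) (hα : ∀ j, α j < N)
    (hC : BlowUp.IsEffCartierIdeal (∏ j, D j ^ α j)) {a : Pic Y} (ha : Amp a) {L : Y.Modules}
    (hL : PicF.IsInvertible L)
    (hsa : SA (mk L hL ^ N * dcl _ hC)) (hbig : Big (mk L hL ^ N * dcl _ hC)) (i : ℕ) (hi : 1 ≤ i) :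
    Subsingleton (Coh.HH Y (CohB1.tensorMod ω L) i) := by
  have : AlgebraicGeometry.IsIntegral Y := isIntegral_of_smooth (Y ↘ Spec (CommRingCat.of k))
  have hM := isInvertible_lnd hL N D α hC
  rw [← mk_lnd hL N D α hC hM] at hsa hbig
  refine hKV Y n hn ω hω L hL N hN r D hD α hα ((sa_mk hM).1 hsa) ?_ i hi
  rw [big_mk_iff] at hbig
  obtain ⟨m, φ, hm, hφ⟩ := hbig (rep a) (amp_rep ha)
  exact ⟨m, rep a, φ, hm, amp_rep ha, hφ⟩

section

variable {X : Scheme.{u}}

theorem dcl_prodpow {r : ℕ} (D : Fin r → X.IdealSheafData) (hD : ∀ i, BlowUp.IsEffCartierIdeal (D i)) (α : Fin r → ℕ)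
    (h : BlowUp.IsEffCartierIdeal (∏ i, D i ^ α i)) : dcl (∏ i, D i ^ α i) h = ∏ i, dcl (D i) (hD i) ^ α i := by
  obtain ⟨h', e⟩ := dcl_prod (fun i => D i ^ α i) (fun i => K31.Cover.isEff_pow (hD i) (α i))
  exact e.trans (Finset.prod_congr rfl fun i _ => dcl_pow (hD i) (α i) _)

theorem ggc_prod {ι : Type*} (s : Finset ι) (c : ι → Pic X) (h : ∀ i ∈ s, GGc (c i)) : GGc (∏ i ∈ s, c i) := by
  classical
  induction s using Finset.induction_on with
  | empty => rw [Finset.prod_empty]; exact GGc.one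
  | insert a s ha ih =>
    rw [Finset.prod_insert ha]
    exact (h a (Finset.mem_insert_self _ _)).mul (ih fun i hi => h i (Finset.mem_insert_of_mem hi))

end

/-- The arithmetic identity behind `van_global`. -/
theorem prod_identity {G : Type*} [CommGroup G] {r m : ℕ} (a : G) (e : Fin r → G) (al : Fin m → Fin r → ℕ)
    (w P : Fin m → ℕ) (N l t : ℕ) (ht : l * N = t + ∑ s, P s * w s) (fl α : Fin r → ℕ)
    (hfl : ∀ i, fl i * N + α i = ∑ s, P s * al s i) :
    (a ^ l * ∏ i, e i ^ fl i) ^ N * ∏ i, e i ^ α i =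
      a ^ t * ∏ s, (a ^ w s * ∏ i, e i ^ al s i) ^ P s := by
  have h1 : ∏ s, (a ^ w s * ∏ i, e i ^ al s i) ^ P s = a ^ (∑ s, P s * w s) * ∏ i, e i ^ (∑ s, P s * al s i) := by
    simp only [mul_pow, Finset.prod_mul_distrib]
    congr 1
    · rw [← Finset.prod_pow_eq_pow_sum]
      exact Finset.prod_congr rfl fun s _ => by rw [← pow_mul, mul_comm]
    · simp only [← Finset.prod_pow]
      rw [Finset.prod_comm]
      refine Finset.prod_congr rfl fun i _ => ?_
      rw [← Finset.prod_pow_eq_pow_sum]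
      exact Finset.prod_congr rfl fun s _ => by rw [← pow_mul, mul_comm]
  rw [h1, mul_pow, ← pow_mul, ht, pow_add, ← Finset.prod_pow, mul_assoc, mul_assoc,
    ← Finset.prod_mul_distrib]
  congr 2
  refine Finset.prod_congr rfl fun i _ => ?_
  rw [← pow_mul, ← pow_add, hfl]

section main

variable {k : Type u} [Field k] {X Y : Scheme.{u}} (p : X ⟶ Spec (CommRingCat.of k)) [IsProper p]
  (μ : Y ⟶ X) [IsProper μ] [AlgebraicGeometry.IsIntegral Y] [Smooth (μ ≫ p)]

/-- **Global vanishing on a model.** -/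
theorem van_global (hKV : KVss k) (hμ : K84.Iface.IsBir μ) {H : Y.Modules} (hH : CohB1.IsAmple H) {n : ℕ}
    (hn : topologicalKrullDim Y = n) {ω : Y.Modules} (hω : ExtPow.IsExtPow n (Omega.sheaf (μ ≫ p)) ω)
    {r : ℕ} (E : Fin r → Y.IdealSheafData) (hE : LogNCD.IsNCD E (μ ≫ p)) {A : X.Modules} (hA : CohB1.IsAmple A)
    {m : ℕ} (I : Fin m → X.IdealSheafData) (w : Fin m → ℕ)
    (hgg : ∀ s, Curv2.IsGloballyGenerated (CohB1.tensorMod (CohB1.tensorPow A (w s)) (ClSub.idealMod (I s))))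
    (al : Fin m → Fin r → ℕ) (hI : ∀ s, (I s).comap μ = ∏ i, E i ^ al s i) (c : Fin m → ℚ) (hc : ∀ s, 0 ≤ c s)
    (l : ℕ) (hl : ∑ s, c s * w s < l) (q : ℕ) (hq : 1 ≤ q) :
    Subsingleton (Coh.HH Y (CohB1.tensorMod ω (CohB1.tensorMod ((Scheme.Modules.pullback μ).obj (CohB1.tensorPow A l))
      (ClSub.idealMod (∏ i, E i ^ ⌊∑ s, c s * al s i⌋₊)))) q) := by
  let _ : Y.Over (Spec (CommRingCat.of k)) := ⟨μ ≫ p⟩
  have : IsProper (Y ↘ Spec (CommRingCat.of k)) := inferInstanceAs (IsProper (μ ≫ p))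
  have : Smooth (Y ↘ Spec (CommRingCat.of k)) := inferInstanceAs (Smooth (μ ≫ p))
  have hsep : Y.IsSeparated := K931.Basic.isSeparated k Y
  have hcomp : CompactSpace Y := K931.Basic.compactSpace k Y
  have hEi : ∀ i, BlowUp.IsEffCartierIdeal (E i) := fun i => K911.Ncd.isEff_of_isNCD hE i
  -- a common denominator
  obtain ⟨N, hN, P, hP⟩ : ∃ N : ℕ, 0 < N ∧ ∃ P : Fin m → ℕ, ∀ s, c s * N = P s := by
    refine ⟨∏ s, (c s).den, Finset.prod_pos fun s _ => (c s).den_pos, fun s =>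
      (c s).num.toNat * ∏ t ∈ Finset.univ.erase s, (c t).den, fun s => ?_⟩
    rw [← Finset.mul_prod_erase Finset.univ (fun t => (c t).den) (Finset.mem_univ s)]
    push_cast
    rw [← mul_assoc, Rat.mul_den_eq_num]
    congr 1
    have h1 : 0 ≤ (c s).num := Rat.num_nonneg.2 (hc s)
    have h2 : (((c s).num.toNat : ℤ) : ℚ) = (c s).num := by rw [Int.toNat_of_nonneg h1]
    exact_mod_cast h2.symm
  have hNq : (0 : ℚ) < N := by exact_mod_cast hN
  have hsum : ∀ i, (∑ s, c s * al s i) * N = ((∑ s, P s * al s i : ℕ) : ℚ) := fun i => by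
    rw [Finset.sum_mul]
    push_cast
    exact Finset.sum_congr rfl fun s _ => by rw [← hP s]; ring
  have hfloor : ∀ i, ⌊∑ s, c s * al s i⌋₊ = (∑ s, P s * al s i) / N := fun i => by
    rw [← Nat.floor_div_eq_div (K := ℚ), ← hsum i, mul_div_assoc, div_self hNq.ne', mul_one]
  obtain ⟨t, ht0, ht⟩ : ∃ t : ℕ, 0 < t ∧ l * N = t + ∑ s, P s * w s := by
    have h1 : ((∑ s, P s * w s : ℕ) : ℚ) < ((l * N : ℕ) : ℚ) := by
      push_cast
      have : (∑ s, (P s : ℚ) * w s) = (∑ s, c s * w s) * N := by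
        rw [Finset.sum_mul]
        exact Finset.sum_congr rfl fun s _ => by rw [← hP s]; ring
      rw [this]
      exact mul_lt_mul_of_pos_right hl hNq
    have h2 : ∑ s, P s * w s < l * N := by exact_mod_cast h1
    exact ⟨l * N - ∑ s, P s * w s, by omega, by omega⟩
  set fl : Fin r → ℕ := fun i => ⌊∑ s, c s * al s i⌋₊ with hfl
  let α : Fin r → ℕ := fun i => (∑ s, P s * al s i) % N
  have hα : ∀ i, α i < N := fun i => Nat.mod_lt _ hN
  have hsplit : ∀ i, fl i * N + α i = ∑ s, P s * al s i := fun i => by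
    change ⌊_⌋₊ * N + _ = _
    rw [hfloor i]
    exact Nat.div_add_mod' _ _
  have hC := isEff_prod Finset.univ (fun i => E i ^ α i) fun i _ => K31.Cover.isEff_pow (hEi i) (α i)
  have hF := isEff_prod Finset.univ (fun i => E i ^ fl i) fun i _ => K31.Cover.isEff_pow (hEi i) (fl i)
  have hAl := isInvertible_pullback μ (isInvertible_tensorPow hA.1 l)
  have hL : PicF.IsInvertible (CohB1.tensorMod ((Scheme.Modules.pullback μ).obj (CohB1.tensorPow A l))
      (ClSub.idealMod (∏ i, E i ^ fl i))) :=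
    isInvertible_tensorMod hAl (Dix.IdealModCartier.isInvertible_idealMod hF)
  have hcl : mk _ hL = pull μ (mk A hA.1) ^ l * ∏ i, dcl (E i) (hEi i) ^ fl i := by
    rw [← mk_mul_mk hAl (Dix.IdealModCartier.isInvertible_idealMod hF),
      ← pull_mk μ (isInvertible_tensorPow hA.1 l), mk_tensorPow hA.1, map_pow,
      ← dcl_prodpow E hEi fl hF]
    rfl
  have key : mk _ hL ^ N * dcl _ hC = pull μ (mk A hA.1) ^ t *
      ∏ s, (pull μ (mk A hA.1) ^ w s * ∏ i, dcl (E i) (hEi i) ^ al s i) ^ P s := by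
    rw [hcl, dcl_prodpow E hEi α hC]
    exact prod_identity _ _ al w P N l t ht fl α hsplit
  have hgen : GGc (∏ s, (pull μ (mk A hA.1) ^ w s * ∏ i, dcl (E i) (hEi i) ^ al s i) ^ P s) := by
    refine ggc_prod _ _ fun s _ => GGc.pow ?_ _
    have hIs : BlowUp.IsEffCartierIdeal ((I s).comap μ) := by
      rw [hI s]
      exact isEff_prod _ _ fun i _ => K31.Cover.isEff_pow (hEi i) _
    have h1 := EpiComap.ggc_comap μ (isInvertible_tensorPow hA.1 (w s)) (I s) (hgg s) hIs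
    rwa [mk_tensorPow, map_pow, dcl_congr (hI s) hIs, dcl_prodpow E hEi (al s)] at h1
  have ha : Amp (mk A hA.1) := (amp_mk hA.1).2 hA
  have hh : Amp (mk H hH.1) := (amp_mk hH.1).2 hH
  have hXs : X.IsSeparated := by
    let _ : X.Over (Spec (CommRingCat.of k)) := ⟨p⟩
    have : IsProper (X ↘ Spec (CommRingCat.of k)) := inferInstanceAs (IsProper p)
    exact K931.Basic.isSeparated k X
  have hXc : CompactSpace X := hA.2.1
  refine hKV.cls Y n hn ω hω N hN E hE α hα hC hh hL ?_ ?_ q hq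
  · rw [key]
    refine SA.mul (SA.pow (sa_pull μ (Amp.sa ha)) t) ⟨1, one_pos, ?_⟩
    rw [pow_one]
    exact hgen
  · rw [key]
    exact big_mul_ggc hh (big_pow hh (big_pull p μ hμ ha hh) ht0) hgen

end main

end K699.KV
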